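import Mathlib
import Cfsg.Agent.Lib.Helper43.CHO.HypRed
import Cfsg.Agent.Lib.Helper14.Forms

/-!
# CHO (S1083): `Ω(x₀² + x₁y₁ + x₂y₂)` is generated by the eight root families, `|F| > 2`

Vocabulary of `Helper43.CHO.HypRed` (Eichler matrices `eich Q u a`, tori `hyp Q e f c`) for
`Q = Helper14.oddQF 2 F`.  Every field with more than two elements (all characteristics).
-/

set_option autoImplicit false

namespace Cfsg.Agent.Lib.Helper85.CHO

open Matrix Cfsg.Agent.Lib.Helper43.CHO Cfsg.Agent.Lib.Helper14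
open scoped commutatorElement

universe u

section generic

variable {ι : Type} [Fintype ι] [DecidableEq ι] {F : Type u} [Field F]
  (Q : QuadraticForm F (ι → F))

/-- conjugation: `g E_{u,a} = E_{gu,ga} g` for a `Q`-preserving matrix `g`. -/
theorem eich_conj (g : Matrix ι ι F) (hg : ∀ x, Q (g *ᵥ x) = Q x) (u a : ι → F) :
    g * eich Q u a = eich Q (g *ᵥ u) (g *ᵥ a) * g := by
  apply mat_ext
  intro x
  rw [← mulVec_mulVec, ← mulVec_mulVec, eich_mulVec, eich_mulVec]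
  unfold eF
  rw [polar_of_isom Q hg, polar_of_isom Q hg, hg]
  simp only [mulVec_sub, mulVec_add, mulVec_smul]

theorem eich_smul_left (u a : ι → F) (c : F) : eich Q (c • u) a = eich Q u (c • a) := by
  apply mat_ext
  intro x
  rw [eich_mulVec, eich_mulVec]
  unfold eF
  rw [QuadraticMap.polar_smul_left, QuadraticMap.polar_smul_left, QuadraticMap.map_smul]
  simp only [smul_eq_mul]
  module

/-- `h(c) E_{e,a} = E_{e,c a} h(c)` for `a ⊥ e, f`. -/
theorem hyp_eich {e f a : ι → F} (he : Q e = 0) (hf : Q f = 0)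
    (hef : QuadraticMap.polar (⇑Q) e f = 1) (hea : QuadraticMap.polar (⇑Q) e a = 0)
    (hfa : QuadraticMap.polar (⇑Q) f a = 0) {c : F} (hc : c ≠ 0) :
    hyp Q e f c * eich Q e a = eich Q e (c • a) * hyp Q e f c := by
  rw [eich_conj Q (hyp Q e f c) (hyp_isom Q he hf hef hc), hyp_mulVec, hyp_mulVec,
    hF_e Q he hef, hF_of_orth Q c hea hfa, eich_smul_left]

end generic

/-- a group is `R · A` with `A` a commuting set normalising the subgroup `R`: then the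
commutator subgroup lies in `R`. -/
theorem commutator_le_of_decomp {G : Type*} [Group G] (R : Subgroup G) (A : Set G)
    (hdec : ∀ g : G, ∃ r ∈ R, ∃ d ∈ A, g = r * d)
    (hnorm : ∀ d ∈ A, ∀ r ∈ R, d * r * d⁻¹ ∈ R)
    (hcomm : ∀ d ∈ A, ∀ d' ∈ A, d * d' = d' * d) : commutator G ≤ R := by
  have hN : R.Normal := by
    constructor
    intro n hn g
    obtain ⟨r, hr, d, hd, rfl⟩ := hdec g
    have h1 := hnorm d hd n hn
    have e : r * d * n * (r * d)⁻¹ = r * (d * n * d⁻¹) * r⁻¹ := by group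
    rw [e]
    exact R.mul_mem (R.mul_mem hr h1) (R.inv_mem hr)
  rw [commutator_def, Subgroup.commutator_le]
  intro g₁ _ g₂ _
  obtain ⟨r₁, hr₁, d₁, hd₁, rfl⟩ := hdec g₁
  obtain ⟨r₂, hr₂, d₂, hd₂, rfl⟩ := hdec g₂
  rw [← QuotientGroup.eq_one_iff, ← QuotientGroup.mk'_apply, map_commutatorElement, map_mul,
    map_mul]
  have e1 : QuotientGroup.mk' R r₁ = 1 := (QuotientGroup.eq_one_iff r₁).mpr hr₁
  have e2 : QuotientGroup.mk' R r₂ = 1 := (QuotientGroup.eq_one_iff r₂).mpr hr₂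
  rw [e1, e2, one_mul, one_mul, ← map_commutatorElement,
    commutatorElement_eq_one_iff_commute.mpr (hcomm d₁ hd₁ d₂ hd₂), map_one]


section B2

variable {F : Type u} [Field F]

/-- the index type of the five-dimensional space. -/
abbrev I5 : Type := Unit ⊕ (Fin 2 ⊕ Fin 2)

/-- the form `x₀² + x₁y₁ + x₂y₂` as a `QuadraticForm`. -/
noncomputable abbrev Qo (F : Type u) [Field F] : QuadraticForm F (I5 → F) := oddQF 2 F

/-- the isometry group (of `⇑(Qo F)`). -/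
noncomputable abbrev O5 (F : Type u) [Field F] : Subgroup (Matrix.GeneralLinearGroup I5 F) :=
  Cfsg.isometryGroup F ⇑(Qo F)

/-- the matrix of an isometry. -/
abbrev mat5 (σ : ↥(O5 F)) : Matrix I5 I5 F :=
  ((σ : Matrix.GeneralLinearGroup I5 F) : Matrix I5 I5 F)

/-- basis vectors. -/
abbrev bv (k : I5) : I5 → F := Pi.single k 1

/-- the partner index: `e_i ↔ f_i`, `x₀ ↦ x₀`. -/
def par : I5 → I5
  | Sum.inl () => Sum.inl ()
  | Sum.inr (Sum.inl i) => Sum.inr (Sum.inr i)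
  | Sum.inr (Sum.inr i) => Sum.inr (Sum.inl i)

/-- the index is one of the four hyperbolic ones. -/
def IsH : I5 → Prop
  | Sum.inl () => False
  | Sum.inr _ => True

/-- the level (`0` or `1`) of a hyperbolic index. -/
def lev : I5 → Fin 2
  | Sum.inl () => 0
  | Sum.inr (Sum.inl i) => i
  | Sum.inr (Sum.inr i) => i

/-- the eight root families: `(k, j)` with `k` hyperbolic and `j = x₀` (short) or `k` of
level `0` and `j` hyperbolic of level `1` (long). -/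
def GP (k j : I5) : Prop :=
  IsH k ∧ (j = Sum.inl () ∨ (lev k = 0 ∧ IsH j ∧ lev j = 1))

/-- root pairs `(u, a) = (b_k, t • b_j)`. -/
def RP (u a : I5 → F) : Prop :=
  ∃ (k j : I5) (t : F), GP k j ∧ u = bv k ∧ a = t • bv j

theorem Q_bv_of_isH {k : I5} (hk : IsH k) : Qo F (bv k : I5 → F) = 0 := by
  have h : ⇑(Qo F) = Cfsg.quadFormOdd 2 F := oddQF_coe 2 F
  rw [h]
  rcases k with ⟨⟩ | i | i
  · exact hk.elim
  · simp [Cfsg.quadFormOdd]
  · simp [Cfsg.quadFormOdd]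

theorem Q_bv_x0 : Qo F (bv (Sum.inl ()) : I5 → F) = 1 := by
  have h : ⇑(Qo F) = Cfsg.quadFormOdd 2 F := oddQF_coe 2 F
  rw [h]
  simp [Cfsg.quadFormOdd]

theorem pol_bv_of_isH {k : I5} (hk : IsH k) (x : I5 → F) :
    QuadraticMap.polar ⇑(Qo F) (bv k) x = x (par k) := by
  have h : ⇑(Qo F) = Cfsg.quadFormOdd 2 F := oddQF_coe 2 F
  rw [h]
  rcases k with ⟨⟩ | i | i
  · exact hk.elim
  · exact odd_polar_inl 2 F i x
  · exact odd_polar_inr 2 F i x

theorem pol_bv_x0 (x : I5 → F) :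
    QuadraticMap.polar ⇑(Qo F) (bv (Sum.inl ())) x = 2 * x (Sum.inl ()) := by
  have h : ⇑(Qo F) = Cfsg.quadFormOdd 2 F := oddQF_coe 2 F
  rw [h]
  exact odd_polar_unit 2 F x

theorem par_ne_of_GP {k j : I5} (h : GP k j) : par k ≠ j := by
  obtain ⟨hk, hj | ⟨h0, hj, h1⟩⟩ := h
  · subst hj
    rcases k with ⟨⟩ | i | i
    · exact hk.elim
    · simp [par]
    · simp [par]
  · rcases k with ⟨⟩ | i | i
    · exact hk.elim
    · rcases j with ⟨⟩ | i' | i'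
      · exact hj.elim
      · simp [par]
      · simp only [lev] at h0 h1; subst h0; subst h1; simp [par]
    · rcases j with ⟨⟩ | i' | i'
      · exact hj.elim
      · simp only [lev] at h0 h1; subst h0; subst h1; simp [par]
      · simp [par]

theorem RP.sing {u a : I5 → F} (h : RP u a) : Qo F u = 0 := by
  obtain ⟨k, j, t, hkj, rfl, rfl⟩ := h
  exact Q_bv_of_isH hkj.1

theorem RP.orth {u a : I5 → F} (h : RP u a) : QuadraticMap.polar ⇑(Qo F) u a = 0 := by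
  obtain ⟨k, j, t, hkj, rfl, rfl⟩ := h
  rw [pol_bv_of_isH hkj.1]
  simp [Pi.single_apply, par_ne_of_GP hkj]

/-- the set of root elements. -/
def rootSet (F : Type u) [Field F] : Set ↥(O5 F) :=
  {σ | ∃ u a : I5 → F, RP u a ∧ mat5 σ = eich (Qo F) u a}

/-- the subgroup generated by the root elements. -/
noncomputable def RR (F : Type u) [Field F] : Subgroup ↥(O5 F) := Subgroup.closure (rootSet F)

/-- the Eichler element of `O5`. -/
noncomputable def mkE {u a : I5 → F} (hu : Qo F u = 0)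
    (hua : QuadraticMap.polar ⇑(Qo F) u a = 0) : ↥(O5 F) :=
  ⟨eichGL (Qo F) hu hua, eichGL_mem (Qo F) hu hua⟩

theorem mat5_mkE {u a : I5 → F} (hu : Qo F u = 0)
    (hua : QuadraticMap.polar ⇑(Qo F) u a = 0) : mat5 (mkE hu hua) = eich (Qo F) u a := rfl

/-- the torus element of `O5`. -/
noncomputable def mkH {e f : I5 → F} (he : Qo F e = 0) (hf : Qo F f = 0)
    (hef : QuadraticMap.polar ⇑(Qo F) e f = 1) {c : F} (hc : c ≠ 0) : ↥(O5 F) :=
  ⟨hypGL (Qo F) he hf hef hc, hypGL_mem (Qo F) he hf hef hc⟩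

theorem mat5_mkH {e f : I5 → F} (he : Qo F e = 0) (hf : Qo F f = 0)
    (hef : QuadraticMap.polar ⇑(Qo F) e f = 1) {c : F} (hc : c ≠ 0) :
    mat5 (mkH he hf hef hc) = hyp (Qo F) e f c := rfl

theorem mat5_mul (σ τ : ↥(O5 F)) : mat5 (σ * τ) = mat5 σ * mat5 τ := rfl

theorem mat5_one : mat5 (1 : ↥(O5 F)) = 1 := rfl

theorem mat5_mul_inv (σ : ↥(O5 F)) : mat5 σ * mat5 σ⁻¹ = 1 := by
  rw [← mat5_mul, mul_inv_cancel, mat5_one]

theorem mat5_inv_mul (σ : ↥(O5 F)) : mat5 σ⁻¹ * mat5 σ = 1 := by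
  rw [← mat5_mul, inv_mul_cancel, mat5_one]

theorem mat5_ext {σ τ : ↥(O5 F)} (h : mat5 σ = mat5 τ) : σ = τ := isom_ext h

theorem mat5_Q (σ : ↥(O5 F)) (x : I5 → F) : Qo F (mat5 σ *ᵥ x) = Qo F x :=
  isom_preserves σ x

theorem mem_RR_of_RP {u a : I5 → F} (h : RP u a) {σ : ↥(O5 F)}
    (hσ : mat5 σ = eich (Qo F) u a) : σ ∈ RR F :=
  Subgroup.subset_closure ⟨u, a, h, hσ⟩


theorem par_par (k : I5) : par (par k) = k := by
  rcases k with ⟨⟩ | i | i <;> rfl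

theorem isH_par {k : I5} (hk : IsH k) : IsH (par k) := by
  rcases k with ⟨⟩ | i | i
  · exact hk.elim
  · trivial
  · trivial

theorem par_ne_self {k : I5} (hk : IsH k) : par k ≠ k := by
  rcases k with ⟨⟩ | i | i
  · exact hk.elim
  · simp [par]
  · simp [par]

theorem ne_of_GP {k j : I5} (h : GP k j) : k ≠ j := by
  obtain ⟨hk, hj | ⟨h0, hj, h1⟩⟩ := h
  · subst hj
    rcases k with ⟨⟩ | i | i
    · exact hk.elim
    · simp
    · simp
  · intro hkj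
    subst hkj
    rw [h0] at h1
    exact absurd h1 (by decide)

theorem pol_hyp_pair {k : I5} (hk : IsH k) :
    QuadraticMap.polar ⇑(Qo F) (bv k) (bv (par k)) = 1 := by
  rw [pol_bv_of_isH hk]
  simp

/-- Part 1: every root element is a commutator `[h, E]`, `|F| > 2`. -/
theorem rootSet_le_commutator (hF : ∃ a : F, a ≠ 0 ∧ a ≠ 1) {σ : ↥(O5 F)}
    (hσ : σ ∈ rootSet F) : σ ∈ commutator ↥(O5 F) := by
  obtain ⟨u, a, ⟨k, j, t, hkj, rfl, rfl⟩, hm⟩ := hσ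
  obtain ⟨c, hc0, hc1⟩ := hF
  have hk := hkj.1
  have hpk := isH_par hk
  have he : Qo F (bv k : I5 → F) = 0 := Q_bv_of_isH hk
  have hf : Qo F (bv (par k) : I5 → F) = 0 := Q_bv_of_isH hpk
  have hef := pol_hyp_pair (F := F) hk
  have hea : ∀ s : F, QuadraticMap.polar ⇑(Qo F) (bv k) (s • bv j) = 0 :=
    fun s => RP.orth ⟨k, j, s, hkj, rfl, rfl⟩
  have hfa : ∀ s : F, QuadraticMap.polar ⇑(Qo F) (bv (par k)) (s • bv j) = 0 := by
    intro s
    rw [pol_bv_of_isH hpk, par_par]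
    simp [Pi.single_apply, ne_of_GP hkj]
  have hc1' : c - 1 ≠ 0 := sub_ne_zero.mpr hc1
  obtain ⟨s, hs⟩ : ∃ s : F, s = (c - 1)⁻¹ * t := ⟨_, rfl⟩
  obtain ⟨τ, hτ⟩ : ∃ τ : ↥(O5 F), τ = mkE he (hea s) := ⟨_, rfl⟩
  obtain ⟨h, hh⟩ : ∃ h : ↥(O5 F), h = mkH he hf hef hc0 := ⟨_, rfl⟩
  have key : σ * τ * h = h * τ := by
    apply mat5_ext
    rw [mat5_mul, mat5_mul, mat5_mul, hm, hτ, hh, mat5_mkE, mat5_mkH,
      hyp_eich (Qo F) he hf hef (hea s) (hfa s) hc0, eich_mul (Qo F) he (hea t) (hea s)]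
    congr 2
    rw [hs, smul_smul, ← add_smul]
    congr 1
    field_simp
    ring
  have e : σ = ⁅h, τ⁆ := by
    rw [commutatorElement_def, ← key]
    group
  rw [e, commutator_def]
  exact Subgroup.commutator_mem_commutator (Subgroup.mem_top h) (Subgroup.mem_top τ)

/-- diagonal isometries. -/
def IsD (σ : ↥(O5 F)) : Prop := ∃ w : I5 → F, mat5 σ = Matrix.diagonal w

theorem IsD.mul {σ τ : ↥(O5 F)} (h1 : IsD σ) (h2 : IsD τ) : IsD (σ * τ) := by
  obtain ⟨w, hw⟩ := h1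
  obtain ⟨w', hw'⟩ := h2
  exact ⟨fun i => w i * w' i, by rw [mat5_mul, hw, hw', Matrix.diagonal_mul_diagonal]⟩

theorem IsD.comm {σ τ : ↥(O5 F)} (h1 : IsD σ) (h2 : IsD τ) : σ * τ = τ * σ := by
  obtain ⟨w, hw⟩ := h1
  obtain ⟨w', hw'⟩ := h2
  apply mat5_ext
  rw [mat5_mul, mat5_mul, hw, hw', Matrix.diagonal_mul_diagonal, Matrix.diagonal_mul_diagonal]
  congr 1
  funext i
  exact mul_comm _ _

theorem IsD.inv {σ : ↥(O5 F)} (h : IsD σ) : IsD σ⁻¹ := by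
  obtain ⟨w, hw⟩ := h
  have h1 := mat5_inv_mul σ
  rw [hw] at h1
  have h2 : ∀ i j, mat5 σ⁻¹ i j * w j = (1 : Matrix I5 I5 F) i j := by
    intro i j
    rw [← h1, Matrix.mul_diagonal]
  refine ⟨fun i => mat5 σ⁻¹ i i, ?_⟩
  ext i j
  by_cases hij : i = j
  · subst hij
    simp
  · rw [Matrix.diagonal_apply_ne _ hij]
    have hj : w j ≠ 0 := by
      intro h0
      have := h2 j j
      rw [h0, mul_zero, Matrix.one_apply_eq] at this
      exact zero_ne_one this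
    have := h2 i j
    rw [Matrix.one_apply_ne hij] at this
    exact (mul_eq_zero.mp this).resolve_right hj

theorem diag_bv (w : I5 → F) (k : I5) : Matrix.diagonal w *ᵥ (bv k : I5 → F) = w k • bv k := by
  rw [Matrix.diagonal_mulVec_single, mul_one]
  funext i
  simp [Pi.single_apply]

theorem IsD.conj_root {d σ : ↥(O5 F)} (hd : IsD d) (hσ : σ ∈ rootSet F) :
    d * σ * d⁻¹ ∈ rootSet F := by
  obtain ⟨w, hw⟩ := hd
  obtain ⟨u, a, ⟨k, j, t, hkj, rfl, rfl⟩, hm⟩ := hσ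
  refine ⟨bv k, (w k * (t * w j)) • bv j, ⟨k, j, _, hkj, rfl, rfl⟩, ?_⟩
  rw [mat5_mul, mat5_mul, hm, eich_conj (Qo F) (mat5 d) (mat5_Q d), Matrix.mul_assoc,
    mat5_mul_inv, Matrix.mul_one, hw, diag_bv, Matrix.mulVec_smul, diag_bv, eich_smul_left,
    smul_smul, smul_smul, mul_assoc]

theorem IsD.conj_RR {d : ↥(O5 F)} (hd : IsD d) {r : ↥(O5 F)} (hr : r ∈ RR F) :
    d * r * d⁻¹ ∈ RR F := by
  have h : RR F ≤ (RR F).comap (MulAut.conj d).toMonoidHom := by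
    unfold RR
    rw [Subgroup.closure_le]
    intro σ hσ
    exact Subgroup.subset_closure (hd.conj_root hσ)
  exact h hr


/-- products `r * d`, `r ∈ R`, `d` diagonal. -/
def InP (g : ↥(O5 F)) : Prop := ∃ r ∈ RR F, ∃ d : ↥(O5 F), IsD d ∧ g = r * d

theorem InP.of_D {d : ↥(O5 F)} (hd : IsD d) : InP d :=
  ⟨1, one_mem _, d, hd, (one_mul d).symm⟩

theorem InP.mul_R {k g : ↥(O5 F)} (hk : k ∈ RR F) (hg : InP g) : InP (k * g) := by
  obtain ⟨r, hr, d, hd, rfl⟩ := hg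
  exact ⟨k * r, (RR F).mul_mem hk hr, d, hd, (mul_assoc k r d).symm⟩

theorem InP.mul_D {k g : ↥(O5 F)} (hk : IsD k) (hg : InP g) : InP (k * g) := by
  obtain ⟨r, hr, d, hd, rfl⟩ := hg
  exact ⟨k * r * k⁻¹, hk.conj_RR hr, k * d, hk.mul hd, by group⟩

theorem InP.step {k1 k2 k3 k4 g : ↥(O5 F)} (h1 : k1 ∈ RR F) (h2 : k2 ∈ RR F) (h3 : IsD k3)
    (h4 : k4 ∈ RR F) (hg : InP (k4 * k3 * k2 * k1 * g)) : InP g := by
  have e : g = k1⁻¹ * (k2⁻¹ * (k3⁻¹ * (k4⁻¹ * (k4 * k3 * k2 * k1 * g)))) := by group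
  rw [e]
  exact InP.mul_R ((RR F).inv_mem h1) (InP.mul_R ((RR F).inv_mem h2)
    (InP.mul_D h3.inv (InP.mul_R ((RR F).inv_mem h4) hg)))

/-- the five indices. -/
abbrev z0 : I5 := Sum.inl ()
abbrev e0 : I5 := Sum.inr (Sum.inl 0)
abbrev f0 : I5 := Sum.inr (Sum.inr 0)
abbrev e1 : I5 := Sum.inr (Sum.inl 1)
abbrev f1 : I5 := Sum.inr (Sum.inr 1)

theorem isD_mkH {k : I5} (hk : IsH k) {c : F} (hc : c ≠ 0) :
    IsD (mkH (Q_bv_of_isH (F := F) hk) (Q_bv_of_isH (isH_par hk)) (pol_hyp_pair hk) hc) := by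
  refine ⟨fun i => if i = k then c else if i = par k then c⁻¹ else 1, ?_⟩
  rw [mat5_mkH]
  apply mat_ext
  intro x
  rw [hyp_mulVec]
  unfold hF
  rw [pol_bv_of_isH (isH_par hk), pol_bv_of_isH hk, par_par]
  funext i
  rw [Matrix.mulVec_diagonal]
  simp only [Pi.add_apply, Pi.smul_apply, Pi.single_apply, smul_eq_mul]
  by_cases h1 : i = k
  · subst h1
    have h2 : i ≠ par i := (par_ne_self hk).symm
    simp only [if_true, if_neg h2]
    ring
  · by_cases h2 : i = par k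
    · subst h2
      simp only [if_neg h1, if_true]
      ring
    · simp only [if_neg h1, if_neg h2]
      ring

theorem vec_decomp (a : I5 → F) :
    a = a z0 • bv z0 + (a e0 • bv e0 + (a f0 • bv f0 + (a e1 • bv e1 + a f1 • bv f1))) := by
  funext i
  rcases i with ⟨⟩ | i | i
  · simp [Pi.single_apply]
  · fin_cases i <;> simp [Pi.single_apply]
  · fin_cases i <;> simp [Pi.single_apply]

theorem Qo_apply (x : I5 → F) : Qo F x = x z0 ^ 2 + (x e0 * x f0 + x e1 * x f1) := by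
  have h : ⇑(Qo F) = Cfsg.quadFormOdd 2 F := oddQF_coe 2 F
  rw [h]
  simp [Cfsg.quadFormOdd, Fin.sum_univ_two]

theorem eich_mem_RR_lev0 {k : I5} (hk : IsH k) (hl : lev k = 0) {a : I5 → F} (h1 : a k = 0)
    (h2 : a (par k) = 0) {σ : ↥(O5 F)} (hσ : mat5 σ = eich (Qo F) (bv k) a) : σ ∈ RR F := by
  have hQ := Q_bv_of_isH (F := F) hk
  have g0 : GP k z0 := ⟨hk, Or.inl rfl⟩
  have g1 : GP k e1 := ⟨hk, Or.inr ⟨hl, trivial, rfl⟩⟩
  have g2 : GP k f1 := ⟨hk, Or.inr ⟨hl, trivial, rfl⟩⟩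
  have r0 : RP (bv k : I5 → F) (a z0 • bv z0) := ⟨k, z0, _, g0, rfl, rfl⟩
  have r1 : RP (bv k : I5 → F) (a e1 • bv e1) := ⟨k, e1, _, g1, rfl, rfl⟩
  have r2 : RP (bv k : I5 → F) (a f1 • bv f1) := ⟨k, f1, _, g2, rfl, rfl⟩
  have ha : a = a z0 • bv z0 + (a e1 • bv e1 + a f1 • bv f1) := by
    have h0 : a e0 = 0 ∧ a f0 = 0 := by
      rcases k with ⟨⟩ | i | i
      · exact hk.elim
      · simp only [lev] at hl
        subst hl
        exact ⟨h1, h2⟩
      · simp only [lev] at hl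
        subst hl
        exact ⟨h2, h1⟩
    conv_lhs => rw [vec_decomp a]
    rw [h0.1, h0.2]
    simp
  have e : σ = mkE hQ r0.orth * (mkE hQ r1.orth * mkE hQ r2.orth) := by
    apply mat5_ext
    rw [hσ, mat5_mul, mat5_mul, mat5_mkE, mat5_mkE, mat5_mkE,
      eich_mul (Qo F) hQ r1.orth r2.orth,
      eich_mul (Qo F) hQ r0.orth
        (by rw [QuadraticMap.polar_add_right, r1.orth, r2.orth, add_zero]), ← ha]
  rw [e]
  exact (RR F).mul_mem (mem_RR_of_RP r0 rfl)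
    ((RR F).mul_mem (mem_RR_of_RP r1 rfl) (mem_RR_of_RP r2 rfl))

theorem eich_mem_RR_x0 {k : I5} (hk : IsH k) {a : I5 → F} (h : ∀ i, IsH i → a i = 0)
    {σ : ↥(O5 F)} (hσ : mat5 σ = eich (Qo F) (bv k) a) : σ ∈ RR F := by
  have ha : a = a z0 • bv z0 := by
    conv_lhs => rw [vec_decomp a]
    rw [h e0 trivial, h f0 trivial, h e1 trivial, h f1 trivial]
    simp
  rw [ha] at hσ
  exact mem_RR_of_RP ⟨k, z0, _, ⟨hk, Or.inl rfl⟩, rfl, rfl⟩ hσ

theorem coord_of_fix {G : Matrix I5 I5 F} (hG : ∀ x, Qo F (G *ᵥ x) = Qo F x) {k : I5}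
    (hk : IsH k) (hfix : G *ᵥ bv k = bv k) (x : I5 → F) : (G *ᵥ x) (par k) = x (par k) := by
  rw [← pol_bv_of_isH hk (G *ᵥ x), ← pol_bv_of_isH hk x]
  conv_lhs => rw [← hfix]
  exact polar_of_isom (Qo F) hG _ _

theorem eich_fix {k : I5} {b y : I5 → F}
    (h1 : QuadraticMap.polar ⇑(Qo F) (bv k) y = 0) (h2 : QuadraticMap.polar ⇑(Qo F) b y = 0) :
    eich (Qo F) (bv k) b *ᵥ y = y := by
  rw [eich_mulVec, eF_of_orth (Qo F) h1, h2, zero_smul, add_zero]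

/-- the subspace `⟨x₀, e₁, f₁⟩`. -/
def M0 (F : Type u) [Field F] : Submodule F (I5 → F) where
  carrier := {x | x e0 = 0 ∧ x f0 = 0}
  add_mem' := by
    intro a b ha hb
    exact ⟨by simp [ha.1, hb.1], by simp [ha.2, hb.2]⟩
  zero_mem' := ⟨rfl, rfl⟩
  smul_mem' := by
    intro c x hx
    exact ⟨by simp [hx.1], by simp [hx.2]⟩

theorem mem_M0 (x : I5 → F) : x ∈ M0 F ↔ x e0 = 0 ∧ x f0 = 0 := Iff.rfl


/-- every isometry is `r * d` with `r ∈ R` and `d` diagonal. -/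
theorem inP_all (g : ↥(O5 F)) : InP g := by
  have hE0 : IsH (e0 : I5) := trivial
  have hF0 : IsH (f0 : I5) := trivial
  have hE1 : IsH (e1 : I5) := trivial
  have hF1 : IsH (f1 : I5) := trivial
  have he := Q_bv_of_isH (F := F) hE0
  have hf := Q_bv_of_isH (F := F) hF0
  have hef : QuadraticMap.polar ⇑(Qo F) (bv e0) (bv f0) = 1 := pol_hyp_pair (F := F) hE0
  have he' := Q_bv_of_isH (F := F) hE1
  have hf' := Q_bv_of_isH (F := F) hF1
  have hef' : QuadraticMap.polar ⇑(Qo F) (bv e1) (bv f1) = 1 := pol_hyp_pair (F := F) hE1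
  -- step 1
  have H1 : ∀ w ∈ (⊤ : Submodule F (I5 → F)), QuadraticMap.polar ⇑(Qo F) (bv e0) w = 0 →
      QuadraticMap.polar ⇑(Qo F) (bv f0) w = 0 → Qo F w = 0 → w ≠ 0 →
      ∃ a ∈ (⊤ : Submodule F (I5 → F)), QuadraticMap.polar ⇑(Qo F) (bv e0) a = 0 ∧
        QuadraticMap.polar ⇑(Qo F) (bv f0) a = 0 ∧ QuadraticMap.polar ⇑(Qo F) w a ≠ 0 := by
    intro w _ hwe hwf hwQ hw0
    rw [pol_bv_of_isH hE0] at hwe
    rw [pol_bv_of_isH hF0] at hwf
    have hwe' : w f0 = 0 := hwe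
    have hwf' : w e0 = 0 := hwf
    rw [Qo_apply, hwe', hwf'] at hwQ
    by_cases h1 : w e1 = 0
    · by_cases h2 : w f1 = 0
      · exfalso
        rw [h1, h2] at hwQ
        have hz : w z0 = 0 := by simpa using hwQ
        apply hw0
        rw [vec_decomp w, hz, hwe', hwf', h1, h2]
        simp
      · refine ⟨bv e1, Submodule.mem_top, ?_, ?_, ?_⟩
        · rw [pol_bv_of_isH hE0]; simp [par]
        · rw [pol_bv_of_isH hF0]; simp [par]
        · rw [QuadraticMap.polar_comm, pol_bv_of_isH hE1]; exact h2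
    · refine ⟨bv f1, Submodule.mem_top, ?_, ?_, ?_⟩
      · rw [pol_bv_of_isH hE0]; simp [par]
      · rw [pol_bv_of_isH hF0]; simp [par]
      · rw [QuadraticMap.polar_comm, pol_bv_of_isH hF1]; exact h1
  have H2 : ∃ a ∈ (⊤ : Submodule F (I5 → F)), QuadraticMap.polar ⇑(Qo F) (bv e0) a = 0 ∧
      QuadraticMap.polar ⇑(Qo F) (bv f0) a = 0 ∧ Qo F a ≠ 0 := by
    refine ⟨bv z0, Submodule.mem_top, ?_, ?_, ?_⟩
    · rw [pol_bv_of_isH hE0]; simp [par]
    · rw [pol_bv_of_isH hF0]; simp [par]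
    · rw [Q_bv_x0]; exact one_ne_zero
  obtain ⟨a1, -, h1e, h1f, a2, -, h2e, h2f, a3, -, h3e, h3f, c, hc, hfixe, hfixf⟩ :=
    isom_red (Qo F) he hf hef ⊤ Submodule.mem_top Submodule.mem_top H1 H2 (mat5 g) (mat5_Q g)
      Submodule.mem_top Submodule.mem_top
  obtain ⟨k1, hk1⟩ : ∃ k : ↥(O5 F), k = mkE he h1e := ⟨_, rfl⟩
  obtain ⟨k2, hk2⟩ : ∃ k : ↥(O5 F), k = mkE hf h2f := ⟨_, rfl⟩
  obtain ⟨k3, hk3⟩ : ∃ k : ↥(O5 F), k = mkH he hf hef hc := ⟨_, rfl⟩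
  obtain ⟨k4, hk4⟩ : ∃ k : ↥(O5 F), k = mkE he h3e := ⟨_, rfl⟩
  have hk1R : k1 ∈ RR F := by
    rw [hk1]
    refine eich_mem_RR_lev0 hE0 rfl ?_ ?_ rfl
    · rw [pol_bv_of_isH hF0] at h1f; exact h1f
    · rw [pol_bv_of_isH hE0] at h1e; exact h1e
  have hk2R : k2 ∈ RR F := by
    rw [hk2]
    refine eich_mem_RR_lev0 hF0 rfl ?_ ?_ rfl
    · rw [pol_bv_of_isH hE0] at h2e; exact h2e
    · rw [pol_bv_of_isH hF0] at h2f; exact h2f
  have hk3D : IsD k3 := by rw [hk3]; exact isD_mkH hE0 hc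
  have hk4R : k4 ∈ RR F := by
    rw [hk4]
    refine eich_mem_RR_lev0 hE0 rfl ?_ ?_ rfl
    · rw [pol_bv_of_isH hF0] at h3f; exact h3f
    · rw [pol_bv_of_isH hE0] at h3e; exact h3e
  apply InP.step hk1R hk2R hk3D hk4R
  obtain ⟨g', hg'⟩ : ∃ g' : ↥(O5 F), g' = k4 * k3 * k2 * k1 * g := ⟨_, rfl⟩
  rw [← hg']
  have hG' : mat5 g' = eich (Qo F) (bv e0) a3 * hyp (Qo F) (bv e0) (bv f0) c
      * eich (Qo F) (bv f0) a2 * eich (Qo F) (bv e0) a1 * mat5 g := by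
    rw [hg', hk1, hk2, hk3, hk4]; rfl
  rw [← hG'] at hfixe hfixf
  -- step 2
  have hQG' := mat5_Q g'
  have c_e0 : ∀ x, (mat5 g' *ᵥ x) e0 = x e0 := fun x => coord_of_fix hQG' hF0 hfixf x
  have c_f0 : ∀ x, (mat5 g' *ᵥ x) f0 = x f0 := fun x => coord_of_fix hQG' hE0 hfixe x
  have H1' : ∀ w ∈ M0 F, QuadraticMap.polar ⇑(Qo F) (bv e1) w = 0 →
      QuadraticMap.polar ⇑(Qo F) (bv f1) w = 0 → Qo F w = 0 → w ≠ 0 →
      ∃ a ∈ M0 F, QuadraticMap.polar ⇑(Qo F) (bv e1) a = 0 ∧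
        QuadraticMap.polar ⇑(Qo F) (bv f1) a = 0 ∧ QuadraticMap.polar ⇑(Qo F) w a ≠ 0 := by
    intro w hwM hwe hwf hwQ hw0
    exfalso
    rw [pol_bv_of_isH hE1] at hwe
    rw [pol_bv_of_isH hF1] at hwf
    have hwe' : w f1 = 0 := hwe
    have hwf' : w e1 = 0 := hwf
    rw [Qo_apply, hwM.1, hwM.2, hwe', hwf'] at hwQ
    have hz : w z0 = 0 := by simpa using hwQ
    apply hw0
    rw [vec_decomp w, hz, hwM.1, hwM.2, hwe', hwf']
    simp
  have H2' : ∃ a ∈ M0 F, QuadraticMap.polar ⇑(Qo F) (bv e1) a = 0 ∧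
      QuadraticMap.polar ⇑(Qo F) (bv f1) a = 0 ∧ Qo F a ≠ 0 := by
    refine ⟨bv z0, ⟨by simp, by simp⟩, ?_, ?_, ?_⟩
    · rw [pol_bv_of_isH hE1]; simp [par]
    · rw [pol_bv_of_isH hF1]; simp [par]
    · rw [Q_bv_x0]; exact one_ne_zero
  have hM_e1 : (bv e1 : I5 → F) ∈ M0 F := ⟨by simp, by simp⟩
  have hM_f1 : (bv f1 : I5 → F) ∈ M0 F := ⟨by simp, by simp⟩
  have hgM_e1 : mat5 g' *ᵥ bv e1 ∈ M0 F := ⟨by rw [c_e0]; simp, by rw [c_f0]; simp⟩
  have hgM_f1 : mat5 g' *ᵥ bv f1 ∈ M0 F := ⟨by rw [c_e0]; simp, by rw [c_f0]; simp⟩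
  obtain ⟨b1, hb1M, hb1e, hb1f, b2, hb2M, hb2e, hb2f, b3, hb3M, hb3e, hb3f, c', hc', hfixe',
      hfixf'⟩ :=
    isom_red (Qo F) he' hf' hef' (M0 F) hM_e1 hM_f1 H1' H2' (mat5 g') hQG' hgM_e1 hgM_f1
  obtain ⟨l1, hl1⟩ : ∃ k : ↥(O5 F), k = mkE he' hb1e := ⟨_, rfl⟩
  obtain ⟨l2, hl2⟩ : ∃ k : ↥(O5 F), k = mkE hf' hb2f := ⟨_, rfl⟩
  obtain ⟨l3, hl3⟩ : ∃ k : ↥(O5 F), k = mkH he' hf' hef' hc' := ⟨_, rfl⟩
  obtain ⟨l4, hl4⟩ : ∃ k : ↥(O5 F), k = mkE he' hb3e := ⟨_, rfl⟩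
  have van : ∀ b : I5 → F, b ∈ M0 F → QuadraticMap.polar ⇑(Qo F) (bv e1) b = 0 →
      QuadraticMap.polar ⇑(Qo F) (bv f1) b = 0 → ∀ i, IsH i → b i = 0 := by
    intro b hbM hbe hbf i hi
    rw [pol_bv_of_isH hE1] at hbe
    rw [pol_bv_of_isH hF1] at hbf
    rcases i with ⟨⟩ | i | i
    · exact hi.elim
    · fin_cases i
      · exact hbM.1
      · exact hbf
    · fin_cases i
      · exact hbM.2
      · exact hbe
  have hl1R : l1 ∈ RR F := by
    rw [hl1]; exact eich_mem_RR_x0 hE1 (van b1 hb1M hb1e hb1f) rfl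
  have hl2R : l2 ∈ RR F := by
    rw [hl2]; exact eich_mem_RR_x0 hF1 (van b2 hb2M hb2e hb2f) rfl
  have hl3D : IsD l3 := by rw [hl3]; exact isD_mkH hE1 hc'
  have hl4R : l4 ∈ RR F := by
    rw [hl4]; exact eich_mem_RR_x0 hE1 (van b3 hb3M hb3e hb3f) rfl
  apply InP.step hl1R hl2R hl3D hl4R
  apply InP.of_D
  obtain ⟨g'', hg''⟩ : ∃ g'' : ↥(O5 F), g'' = l4 * l3 * l2 * l1 * g' := ⟨_, rfl⟩
  rw [← hg'']
  have hG'' : mat5 g'' = eich (Qo F) (bv e1) b3 * hyp (Qo F) (bv e1) (bv f1) c'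
      * eich (Qo F) (bv f1) b2 * eich (Qo F) (bv e1) b1 * mat5 g' := by
    rw [hg'', hl1, hl2, hl3, hl4]; rfl
  rw [← hG''] at hfixe' hfixf'
  have aux : ∀ y : I5 → F, mat5 g' *ᵥ y = y → QuadraticMap.polar ⇑(Qo F) (bv e1) y = 0 →
      QuadraticMap.polar ⇑(Qo F) (bv f1) y = 0 →
      (∀ b ∈ M0 F, QuadraticMap.polar ⇑(Qo F) b y = 0) → mat5 g'' *ᵥ y = y := by
    intro y hy o1 o2 ob
    rw [hG'', ← mulVec_mulVec, ← mulVec_mulVec, ← mulVec_mulVec, ← mulVec_mulVec, hy,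
      eich_fix o1 (ob b1 hb1M), eich_fix o2 (ob b2 hb2M), hyp_mulVec,
      hF_of_orth (Qo F) c' o1 o2, eich_fix o1 (ob b3 hb3M)]
  have fixE0 : mat5 g'' *ᵥ bv e0 = bv e0 := by
    refine aux _ hfixe ?_ ?_ ?_
    · rw [pol_bv_of_isH hE1]; simp [par]
    · rw [pol_bv_of_isH hF1]; simp [par]
    · intro b hb
      rw [QuadraticMap.polar_comm, pol_bv_of_isH hE0]
      exact hb.2
  have fixF0 : mat5 g'' *ᵥ bv f0 = bv f0 := by
    refine aux _ hfixf ?_ ?_ ?_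
    · rw [pol_bv_of_isH hE1]; simp [par]
    · rw [pol_bv_of_isH hF1]; simp [par]
    · intro b hb
      rw [QuadraticMap.polar_comm, pol_bv_of_isH hF0]
      exact hb.1
  have F4 : ∀ k : I5, IsH k → mat5 g'' *ᵥ bv k = bv k := by
    intro k hk
    rcases k with ⟨⟩ | i | i
    · exact hk.elim
    · fin_cases i
      · exact fixE0
      · exact hfixe'
    · fin_cases i
      · exact fixF0
      · exact hfixf'
  have hQG'' := mat5_Q g''
  refine ⟨fun i => mat5 g'' i i, ?_⟩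
  ext i j
  have hcol : mat5 g'' i j = (mat5 g'' *ᵥ bv j) i := by
    simp [Matrix.mulVec_single_one]
  by_cases hij : i = j
  · subst hij
    simp
  · rw [Matrix.diagonal_apply_ne _ hij, hcol]
    by_cases hj : IsH j
    · rw [F4 j hj]
      simp [Pi.single_apply, hij]
    · have hjz : j = z0 := by
        rcases j with ⟨⟩ | j | j
        · rfl
        · exact (hj trivial).elim
        · exact (hj trivial).elim
      subst hjz
      have hi : IsH i := by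
        rcases i with ⟨⟩ | i | i
        · exact (hij rfl).elim
        · trivial
        · trivial
      have h1 := coord_of_fix hQG'' (isH_par hi) (F4 _ (isH_par hi)) (bv z0)
      rw [par_par] at h1
      rw [h1]
      simp [Pi.single_apply, hij]

/-- `Ω ≤ R`: the commutator subgroup lies in the group generated by the root elements. -/
theorem commutator_le_RR : commutator ↥(O5 F) ≤ RR F :=
  commutator_le_of_decomp (RR F) {d | IsD d} (fun g => inP_all g)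
    (fun _ hd _ hr => IsD.conj_RR hd hr) (fun _ hd _ hd' => IsD.comm hd hd')

theorem RR_le_commutator (hF : ∃ a : F, a ≠ 0 ∧ a ≠ 1) : RR F ≤ commutator ↥(O5 F) := by
  unfold RR
  rw [Subgroup.closure_le]
  intro σ hσ
  exact rootSet_le_commutator hF hσ

theorem RR_eq_omega (hF : ∃ a : F, a ≠ 0 ∧ a ≠ 1) : RR F = Cfsg.Omega F ⇑(Qo F) :=
  le_antisymm (RR_le_commutator hF) commutator_le_RR

/-- **[OMEGA-B2]** `Ω(x₀² + x₁y₁ + x₂y₂)` is generated by any set `S` of isometries whose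
matrices are exactly the Eichler matrices `eich (Qo F) u a` of the root pairs `RP u a`
(`(u, a) = (b_k, t • b_j)`, `GP k j`), over every field with more than two elements. -/
theorem omega_odd2_eq_closure (hF : ∃ a : F, a ≠ 0 ∧ a ≠ 1)
    (S : Set ↥(Cfsg.isometryGroup F (Cfsg.quadFormOdd 2 F)))
    (h1 : ∀ σ ∈ S, ∃ u a : I5 → F, RP u a ∧
      ((σ : Matrix.GeneralLinearGroup I5 F) : Matrix I5 I5 F) = eich (Qo F) u a)
    (h2 : ∀ u a : I5 → F, RP u a → ∃ σ ∈ S,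
      ((σ : Matrix.GeneralLinearGroup I5 F) : Matrix I5 I5 F) = eich (Qo F) u a) :
    Subgroup.closure S = Cfsg.Omega F (Cfsg.quadFormOdd 2 F) := by
  have key : ∀ (Q' : (I5 → F) → F) (_ : ⇑(Qo F) = Q') (S : Set ↥(Cfsg.isometryGroup F Q')),
      (∀ σ ∈ S, ∃ u a : I5 → F, RP u a ∧
        ((σ : Matrix.GeneralLinearGroup I5 F) : Matrix I5 I5 F) = eich (Qo F) u a) →
      (∀ u a : I5 → F, RP u a → ∃ σ ∈ S,
        ((σ : Matrix.GeneralLinearGroup I5 F) : Matrix I5 I5 F) = eich (Qo F) u a) →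
      Subgroup.closure S = Cfsg.Omega F Q' := by
    intro Q' hQ
    subst hQ
    intro S h1 h2
    have e : S = rootSet F := by
      ext σ
      constructor
      · intro hσ
        exact h1 σ hσ
      · rintro ⟨u, a, hua, hm⟩
        obtain ⟨σ', hσ', hm'⟩ := h2 u a hua
        have : σ = σ' := mat5_ext (by rw [hm]; exact hm'.symm)
        rw [this]
        exact hσ'
    rw [e]
    exact RR_eq_omega hF
  exact key _ (oddQF_coe 2 F) S h1 h2

end B2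

end Cfsg.Agent.Lib.Helper85.CHO
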