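import Mathlib
import Cfsg.Agent.Lib.Helper85.CHO.OmegaB2
import Cfsg.Agent.Lib.Helper99.CHO.Defs3

/-!
# CHO (S1083): package [GEN-B2] — `Ω₅(K)` is generated by the model root elements

`Helper85.CHO.omega_odd2_eq_closure` + the identification of the table root elements
`EB2mat K r t` with the Eichler matrices `eich (Qo K) (bv k_r) ((ε_r t) • bv j_r)`.
By-products: [UNIT-B2], [ISO-B2].
-/

set_option autoImplicit false

namespace Cfsg.Agent.Lib.Helper85.CHO

open Matrix Cfsg.Agent.Lib.Helper43.CHO Cfsg.Agent.Lib.Helper14 Cfsg.Agent.Lib.Helper99.CHO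

universe u

instance instDecIsH (k : I5) : Decidable (IsH k) :=
  match k with
  | Sum.inl () => isFalse (fun h => h)
  | Sum.inr _ => isTrue trivial

instance instDecGP (k j : I5) : Decidable (GP k j) := by
  unfold GP
  infer_instance

/-- the hyperbolic index `k_r` of the root `r`. -/
def kr : ℕ → I5
  | 0 => Sum.inr (Sum.inr 0)
  | 1 => Sum.inr (Sum.inr 0)
  | 2 => Sum.inr (Sum.inr 1)
  | 3 => Sum.inr (Sum.inr 0)
  | 4 => Sum.inr (Sum.inl 0)
  | 5 => Sum.inr (Sum.inl 1)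
  | 6 => Sum.inr (Sum.inl 0)
  | _ => Sum.inr (Sum.inl 0)

/-- the second index `j_r` of the root `r`. -/
def jr : ℕ → I5
  | 0 => Sum.inr (Sum.inr 1)
  | 1 => Sum.inl ()
  | 2 => Sum.inl ()
  | 3 => Sum.inr (Sum.inl 1)
  | 4 => Sum.inr (Sum.inr 1)
  | 5 => Sum.inl ()
  | 6 => Sum.inl ()
  | _ => Sum.inr (Sum.inl 1)

/-- the sign `ε_r`. -/
def er : ℕ → ℤ
  | 0 => -1
  | 1 => -1
  | 2 => -1
  | 3 => -1
  | _ => 1

/-- integer Kronecker delta. -/
def dl (a b : I5) : ℤ := if a = b then 1 else 0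

/-- integer polar values on basis vectors. -/
def pz (j b : I5) : ℤ := if j = Sum.inl () then 2 * dl (Sum.inl ()) b else dl (par j) b

/-- integer values of the form on basis vectors. -/
def qz (j : I5) : ℤ := if j = Sum.inl () then 1 else 0

/-- the model root vector. -/
def nZ (r : ℕ) (a b : I5) : ℤ :=
  er r * (dl a (kr r) * pz (jr r) b - dl a (jr r) * dl (par (kr r)) b)

/-- the model second-order term. -/
def mZ (r : ℕ) (a b : I5) : ℤ := -(qz (jr r) * dl a (kr r) * dl (par (kr r)) b)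

set_option maxRecDepth 100000 in
theorem tab_check : ∀ r < 8, ∀ a b : I5,
    tab3 nListB2 r (ix5 a) (ix5 b) = nZ r a b ∧ tab3 mListB2 r (ix5 a) (ix5 b) = mZ r a b := by
  decide +kernel

set_option maxRecDepth 100000 in
theorem gp_r : ∀ r < 8, GP (kr r) (jr r) := by
  decide +kernel

set_option maxRecDepth 100000 in
theorem gp_surj : ∀ k j : I5, GP k j → ∃ r < 8, kr r = k ∧ jr r = j := by
  decide +kernel

theorem er_sq (r : ℕ) : er r * er r = 1 := by
  unfold er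
  split <;> norm_num


section field

variable {K : Type u} [Field K]

theorem bv_apply (b a : I5) : (bv b : I5 → K) a = ((dl a b : ℤ) : K) := by
  simp [dl, Pi.single_apply]

theorem polar_bv_bv (j b : I5) :
    QuadraticMap.polar ⇑(Qo K) (bv j) (bv b) = ((pz j b : ℤ) : K) := by
  rcases j with ⟨⟩ | i | i
  · rw [pol_bv_x0, bv_apply]
    simp [pz]
  · rw [pol_bv_of_isH (k := Sum.inr (Sum.inl i)) trivial, bv_apply]
    simp [pz]
  · rw [pol_bv_of_isH (k := Sum.inr (Sum.inr i)) trivial, bv_apply]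
    simp [pz]

theorem Q_bv (j : I5) : Qo K (bv j : I5 → K) = ((qz j : ℤ) : K) := by
  rcases j with ⟨⟩ | i | i
  · rw [Q_bv_x0]
    simp [qz]
  · rw [Q_bv_of_isH (k := Sum.inr (Sum.inl i)) trivial]
    simp [qz]
  · rw [Q_bv_of_isH (k := Sum.inr (Sum.inr i)) trivial]
    simp [qz]

theorem eich_entry (k j : I5) (hk : IsH k) (s : K) (a b : I5) :
    eich (Qo K) (bv k) (s • bv j) a b = ((dl a b : ℤ) : K)
      + ((dl a k : ℤ) : K) * (s * ((pz j b : ℤ) : K))
      - ((dl (par k) b : ℤ) : K) * (s * ((dl a j : ℤ) : K))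
      - (s * s * ((qz j : ℤ) : K) * ((dl (par k) b : ℤ) : K)) * ((dl a k : ℤ) : K) := by
  have h : eich (Qo K) (bv k) (s • bv j) a b = (eich (Qo K) (bv k) (s • bv j) *ᵥ bv b) a := by
    rw [Matrix.mulVec_single_one]
    rfl
  rw [h, eich_mulVec]
  unfold eF
  rw [QuadraticMap.polar_smul_left, QuadraticMap.map_smul, polar_bv_bv, Q_bv,
    pol_bv_of_isH hk]
  simp only [Pi.add_apply, Pi.sub_apply, Pi.smul_apply, smul_eq_mul, bv_apply]
  ring

/-- the table root element is the Eichler matrix of its root pair. -/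
theorem EB2mat_eq (r : ℕ) (hr : r < 8) (t : K) :
    EB2mat K r t = eich (Qo K) (bv (kr r)) ((((er r : ℤ) : K) * t) • bv (jr r)) := by
  have hk : IsH (kr r) := (gp_r r hr).1
  have hε : ((er r : ℤ) : K) * ((er r : ℤ) : K) = 1 := by
    rw [← Int.cast_mul, er_sq, Int.cast_one]
  ext a b
  have h1 : EB2mat K r t a b = ((dl a b : ℤ) : K) + t * ((nZ r a b : ℤ) : K)
      + t ^ 2 * ((mZ r a b : ℤ) : K) := by
    have h0 := tab_check r hr a b
    simp only [EB2mat, NB2, MB2, Matrix.add_apply, Matrix.smul_apply, Matrix.of_apply,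
      smul_eq_mul, Matrix.one_apply, h0.1, h0.2]
    simp [dl]
  rw [h1, eich_entry _ _ hk]
  simp only [nZ, mZ]
  push_cast
  linear_combination (t ^ 2 * ((qz (jr r) : ℤ) : K) * ((dl a (kr r) : ℤ) : K)
    * ((dl (par (kr r)) b : ℤ) : K)) * hε

theorem rp_r (r : ℕ) (hr : r < 8) (t : K) :
    RP (bv (kr r) : I5 → K) ((((er r : ℤ) : K) * t) • bv (jr r)) :=
  ⟨kr r, jr r, _, gp_r r hr, rfl, rfl⟩

/-- [UNIT-B2] (spare). -/
theorem unitB2 : PkgUnitB2.{u} := by
  intro K _ r t hr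
  have h := rp_r r hr t
  rw [EB2mat_eq r hr t]
  exact (eichGL (Qo K) h.sing h.orth).isUnit

/-- [ISO-B2] (spare). -/
theorem isoB2 : PkgIsoB2.{u} := by
  intro K _ r t hr v
  have h := rp_r r hr t
  have hQ : ⇑(Qo K) = Cfsg.quadFormOdd 2 K := oddQF_coe 2 K
  rw [EB2mat_eq r hr t, ← hQ]
  exact eich_isom (Qo K) h.sing h.orth v

theorem coe_EB2' (r : Fin Cfsg.Lie.chevB2.nroots) (t : K) :
    ((EB2 K r t : Matrix.GeneralLinearGroup I5 K) : Matrix I5 I5 K) = EB2mat K r.val t := by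
  have h8 : r.val < 8 := r.2
  have hu : IsUnit (EB2mat K r.val t) := unitB2 K r.val t h8
  unfold EB2
  rw [dif_pos hu]
  rfl

theorem EB2_mem (r : Fin Cfsg.Lie.chevB2.nroots) (t : K) :
    EB2 K r t ∈ Cfsg.isometryGroup K (Cfsg.quadFormOdd 2 K) := by
  rw [mem_isometryGroup_iff]
  intro x
  rw [coe_EB2']
  exact isoB2 K r.val t r.2 x

/-- **[GEN-B2]** `Ω₅(K)` is generated by the model root elements (`|K| > 2`). -/
theorem genB2 : PkgGenB2.{u} := by
  intro K _ hK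
  obtain ⟨S, hS⟩ : ∃ S : Set ↥(Cfsg.isometryGroup K (Cfsg.quadFormOdd 2 K)),
      S = {σ : ↥(Cfsg.isometryGroup K (Cfsg.quadFormOdd 2 K)) |
        ∃ (r : Fin Cfsg.Lie.chevB2.nroots) (t : K),
          (σ : Matrix.GeneralLinearGroup I5 K) = EB2 K r t} := ⟨_, rfl⟩
  have hcl : Subgroup.closure S = Cfsg.Omega K (Cfsg.quadFormOdd 2 K) := by
    apply omega_odd2_eq_closure hK S
    · intro σ hσ
      rw [hS] at hσ
      obtain ⟨r, t, hrt⟩ := hσ
      refine ⟨_, _, rp_r r.val r.2 t, ?_⟩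
      rw [hrt, coe_EB2', EB2mat_eq r.val r.2 t]
    · rintro u a ⟨k, j, t, hkj, rfl, rfl⟩
      obtain ⟨r, hr, rfl, rfl⟩ := gp_surj k j hkj
      have hε : ((er r : ℤ) : K) * ((er r : ℤ) : K) = 1 := by
        rw [← Int.cast_mul, er_sq, Int.cast_one]
      refine ⟨⟨EB2 K ⟨r, hr⟩ (((er r : ℤ) : K) * t), EB2_mem _ _⟩, ?_, ?_⟩
      · rw [hS]
        exact ⟨⟨r, hr⟩, _, rfl⟩
      · show ((EB2 K ⟨r, hr⟩ (((er r : ℤ) : K) * t) : Matrix.GeneralLinearGroup I5 K) :
          Matrix I5 I5 K) = _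
        rw [coe_EB2', EB2mat_eq r hr, ← mul_assoc, hε, one_mul]
  unfold Cfsg.Geo.omegaGL RB2
  rw [← hcl, MonoidHom.map_closure]
  congr 1
  ext g
  constructor
  · rintro ⟨σ, hσ, rfl⟩
    rw [hS] at hσ
    obtain ⟨r, t, hrt⟩ := hσ
    exact ⟨(r, t), hrt.symm⟩
  · rintro ⟨⟨r, t⟩, rfl⟩
    refine ⟨⟨EB2 K r t, EB2_mem r t⟩, ?_, rfl⟩
    rw [hS]
    exact ⟨r, t, rfl⟩

end field

end Cfsg.Agent.Lib.Helper85.CHO
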